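import Mathlib
import Cfsg.Prelude.Def_JComponents
import Cfsg.Agent.Lib.Helper2.KS12.PZ
import Cfsg.Agent.Lib.Helper55.JComp
import Cfsg.Agent.Lib.Helper11.FFJ
import Cfsg.Agent.Lib.Helper11.TFS3
import Cfsg.Agent.Lib.Helper10.Offender2

/-!
Kurzweil–Stellmacher chapter 12 cluster, package FF-min (helper74).

For `L ∈ jOvergroups T` (under `hN`, `hZ`), with `V_L = Ω₁(Z(O₂(L)))` and `C_L = C_L(V_L)`:
there are subgroups `P`, `L1` of `L`, both normalized by `L`, with `C_L ≤ P`, `P / C_L` abelian,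
`J(T) ≤ L1`, and every element of odd order of `L1` lies in `P`.  (`L1 = J(L)`, and `P / C_L`
is the subgroup of the elements of order dividing `3` of `J(L) C_L / C_L`, a direct product of
copies of `S₃` by the failure-of-factorization structure theorem.)

Consequence: two `J(T)`-components of `L` commute modulo `C_L`.
-/

set_option autoImplicit false

namespace Cfsg.Agent.Lib.Helper74.KS12

open scoped commutatorElement
open Cfsg.Agent.Lib.Helper2.KS12
open Cfsg.Agent.Lib.Helper10 Cfsg.Agent.Lib.Helper11 Cfsg.Agent.Lib.Helper11.FFT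
  Cfsg.Agent.Lib.Helper11.FF Cfsg.Agent.Lib.Helper11.TFS

theorem perm3_pow_six (x : Equiv.Perm (Fin 3)) : x ^ 6 = 1 := by
  have h2 : Fintype.card (Equiv.Perm (Fin 3)) = 6 := by decide
  rw [← h2]
  exact pow_card_eq_one

section X

variable {X : Type*} [Group X] [Finite X]

/-- In the holomorph of `V`, the image `H` of `J(X)` has exponent dividing `6`, and its
elements of order dividing `3` commute. -/
theorem map_thompson_facts (V : Subgroup X) [V.Normal] (hV : Cfsg.IsElementaryAbelian 2 V)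
    (hsol : Cfsg.IsPSolvable 2 X) (hOp : Cfsg.pCore 2 ↥(psi V).range = ⊥) :
    (∀ a ∈ (Cfsg.thompsonSubgroup 2 X).map (psi V),
      ∀ b ∈ (Cfsg.thompsonSubgroup 2 X).map (psi V), a ^ 3 = 1 → b ^ 3 = 1 → a * b = b * a) ∧
      ∀ a ∈ (Cfsg.thompsonSubgroup 2 X).map (psi V), a ^ 6 = 1 := by
  have : Fact (Nat.Prime 2) := ⟨Nat.prime_two⟩
  have hJc : (Cfsg.thompsonSubgroup 2 X).Characteristic := (Cfsg.Agent.S0602.result (p := 2)).1
  have hYn : (Cfsg.thompsonSubgroup 2 X).Normal := Subgroup.normal_of_characteristic _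
  obtain ⟨Y, hYdef⟩ : ∃ Y : Subgroup X, Y = Cfsg.thompsonSubgroup 2 X := ⟨_, rfl⟩
  have hYn' : Y.Normal := by rw [hYdef]; exact hYn
  rw [← hYdef]
  obtain ⟨hs, hCK⟩ := setup_map_normal V hV hsol hOp Y
  have hS3 : Y.map (psi V) = ⨆ A : {A : Subgroup (Hol V) //
      A ≤ Y.map (psi V) ∧ Cfsg.IsBestOffenderOn 2 (VV V) A}, (A : Subgroup (Hol V)) := by
    apply le_antisymm
    · rw [Subgroup.map_le_iff_le_comap]
      have hle : Cfsg.thompsonSubgroup 2 X ≤ (⨆ A : {A : Subgroup (Hol V) //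
          A ≤ Y.map (psi V) ∧ Cfsg.IsBestOffenderOn 2 (VV V) A},
            (A : Subgroup (Hol V))).comap (psi V) := by
        unfold Cfsg.thompsonSubgroup
        apply sSup_le
        intro A hA
        rw [← Subgroup.map_le_iff_le_comap]
        have hAY : A ≤ Y := by rw [hYdef]; exact le_thompsonSubgroup hA
        exact le_iSup (fun A : {A : Subgroup (Hol V) //
            A ≤ Y.map (psi V) ∧ Cfsg.IsBestOffenderOn 2 (VV V) A} =>
              (A : Subgroup (Hol V)))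
          ⟨A.map (psi V), Subgroup.map_mono hAY,
            bestOffender_map V (isBestOffenderOn_of_mem_max V A hV hA)⟩
      exact hYdef.le.trans hle
    · exact iSup_le (fun A => A.2.1)
  by_cases hH1 : Y.map (psi V) = ⊥
  · rw [hH1]
    refine ⟨?_, ?_⟩
    · intro a ha b hb _ _
      rw [Subgroup.mem_bot.mp ha, Subgroup.mem_bot.mp hb]
    · intro a ha
      rw [Subgroup.mem_bot.mp ha, one_pow]
  · obtain ⟨-, hstr, hind, hsup, -, -⟩ := structure_thm hs hCK hS3 hH1
      (ι := {E : Subgroup (Hol V) // ∃ a, IsTransv 2 (VV V) (Y.map (psi V)) a ∧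
        E = EE (FF.coreOf 2 (Y.map (psi V))) a})
      (fun E => E.1) Subtype.val_injective (fun i => i.2)
      (fun a ha => ⟨⟨_, a, ha, rfl⟩, rfl⟩)
    have hSL : Nonempty (Matrix.SpecialLinearGroup (Fin 2) (ZMod 2) ≃* Equiv.Perm (Fin 3)) :=
      Cfsg.Agent.S0250.result (F := ZMod 2) (by rw [ZMod.card])
    obtain ⟨e0⟩ := hSL
    obtain ⟨e⟩ := exists_pi_equiv (fun E : {E : Subgroup (Hol V) //
        ∃ a, IsTransv 2 (VV V) (Y.map (psi V)) a ∧
          E = EE (FF.coreOf 2 (Y.map (psi V))) a} => E.1) (Y.map (psi V))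
      (fun i => (hstr i).1) hind hsup (M := Equiv.Perm (Fin 3))
      (fun i => by
        obtain ⟨e1⟩ := (hstr i).2.1
        exact ⟨e1.trans e0⟩)
    refine ⟨?_, ?_⟩
    · intro a ha b hb ha3 hb3
      have key : ∀ (u : Hol V) (hu : u ∈ Y.map (psi V)), u ^ 3 = 1 →
          ∀ i, (e ⟨u, hu⟩ i) ^ 3 = 1 := by
        intro u hu hu3 i
        have h2 : (⟨u, hu⟩ : ↥(Y.map (psi V))) ^ 3 = 1 := by
          apply Subtype.ext
          rw [Subgroup.coe_pow, Subgroup.coe_one]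
          exact hu3
        have h3 := congrArg (fun z => e z i) h2
        simp only [map_pow, map_one, Pi.pow_apply, Pi.one_apply] at h3
        exact h3
      have hcomm : e ⟨a, ha⟩ * e ⟨b, hb⟩ = e ⟨b, hb⟩ * e ⟨a, ha⟩ := by
        funext i
        simp only [Pi.mul_apply]
        exact Cfsg.Agent.Lib.Helper55.JFF.perm3_odd_comm _ _ (key a ha ha3 i) (key b hb hb3 i)
      rw [← map_mul, ← map_mul] at hcomm
      exact congrArg Subtype.val (e.injective hcomm)
    · intro a ha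
      have h1 : e ((⟨a, ha⟩ : ↥(Y.map (psi V))) ^ 6) = e 1 := by
        rw [map_pow, map_one]
        funext i
        simp only [Pi.pow_apply, Pi.one_apply]
        exact perm3_pow_six _
      have h2 := congrArg Subtype.val (e.injective h1)
      rw [Subgroup.coe_pow, Subgroup.coe_one] at h2
      exact h2

/-- **Failure of factorization, minimal form.**  For a normal elementary abelian `2`-subgroup
`V` of a `2`-solvable group `X` with `O_2(X / C_X(V)) = 1`, there is a normal subgroup `P` of `X`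
containing `C_X(V)`, abelian modulo `C_X(V)`, and containing all elements of odd order of
`J(X)`. -/
theorem exists_normal_odd (V : Subgroup X) [V.Normal] (hV : Cfsg.IsElementaryAbelian 2 V)
    (hsol : Cfsg.IsPSolvable 2 X) (hOp : Cfsg.pCore 2 ↥(psi V).range = ⊥) :
    ∃ P : Subgroup X, P.Normal ∧ Subgroup.centralizer (V : Set X) ≤ P ∧
      ⁅P, P⁆ ≤ Subgroup.centralizer (V : Set X) ∧
      ∀ g ∈ Cfsg.thompsonSubgroup 2 X, Odd (orderOf g) → g ∈ P := by
  have : Fact (Nat.Prime 2) := ⟨Nat.prime_two⟩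
  obtain ⟨hc, h6⟩ := map_thompson_facts V hV hsol hOp
  have hJc : (Cfsg.thompsonSubgroup 2 X).Characteristic := (Cfsg.Agent.S0602.result (p := 2)).1
  have hYn : (Cfsg.thompsonSubgroup 2 X).Normal := Subgroup.normal_of_characteristic _
  obtain ⟨H, hHdef⟩ : ∃ H : Subgroup (Hol V), H = (Cfsg.thompsonSubgroup 2 X).map (psi V) :=
    ⟨_, rfl⟩
  rw [← hHdef] at hc h6
  have hHn : ∀ g : X, ∀ a ∈ H, psi V g * a * (psi V g)⁻¹ ∈ H := by
    intro g a ha
    rw [hHdef] at ha ⊢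
    obtain ⟨y, hy, rfl⟩ := ha
    refine ⟨g * y * g⁻¹, hYn.conj_mem y hy g, ?_⟩
    rw [map_mul, map_mul, map_inv]
  obtain ⟨P, hmemP⟩ : ∃ P : Subgroup X, ∀ x : X, x ∈ P ↔ psi V x ∈ H ∧ (psi V x) ^ 3 = 1 := by
    refine ⟨{ carrier := {x | psi V x ∈ H ∧ (psi V x) ^ 3 = 1}
              one_mem' := ?_
              mul_mem' := ?_
              inv_mem' := ?_ }, fun x => Iff.rfl⟩
    · rintro x y ⟨hx, hx3⟩ ⟨hy, hy3⟩
      refine ⟨?_, ?_⟩
      · rw [map_mul]; exact H.mul_mem hx hy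
      · have hcm : Commute (psi V x) (psi V y) := hc _ hx _ hy hx3 hy3
        rw [map_mul, hcm.mul_pow, hx3, hy3, one_mul]
    · refine ⟨?_, ?_⟩
      · rw [map_one]; exact H.one_mem
      · rw [map_one, one_pow]
    · rintro x ⟨hx, hx3⟩
      refine ⟨?_, ?_⟩
      · rw [map_inv]; exact H.inv_mem hx
      · rw [map_inv, inv_pow, hx3, inv_one]
  refine ⟨P, ?_, ?_, ?_, ?_⟩
  · constructor
    intro n hn g
    rw [hmemP] at hn ⊢
    refine ⟨?_, ?_⟩
    · rw [map_mul, map_mul, map_inv]; exact hHn g _ hn.1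
    · rw [map_mul, map_mul, map_inv, conj_pow, hn.2, mul_one, mul_inv_cancel]
  · intro x hx
    have h1 : psi V x = 1 := by rw [← MonoidHom.mem_ker, psi_ker]; exact hx
    rw [hmemP, h1]
    exact ⟨H.one_mem, one_pow 3⟩
  · rw [Subgroup.commutator_le]
    intro x hx y hy
    rw [hmemP] at hx hy
    rw [← psi_ker, MonoidHom.mem_ker, commutatorElement_def, map_mul, map_mul, map_mul, map_inv,
      map_inv]
    have hcm := hc _ hx.1 _ hy.1 hx.2 hy.2
    rw [hcm]; group
  · intro g hg hgo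
    rw [hmemP]
    have hgH : psi V g ∈ H := by rw [hHdef]; exact Subgroup.mem_map_of_mem _ hg
    refine ⟨hgH, ?_⟩
    have h1 : orderOf (psi V g) ∣ orderOf g := orderOf_map_dvd _ _
    have h2 : orderOf (psi V g) ∣ 2 * 3 := orderOf_dvd_of_pow_eq_one (h6 _ hgH)
    have hodd : Odd (orderOf (psi V g)) := Odd.of_dvd_nat hgo h1
    have hcop : (orderOf (psi V g)).Coprime 2 := Nat.coprime_two_right.mpr hodd
    exact orderOf_dvd_iff_pow_eq_one.mp (hcop.dvd_of_dvd_mul_left h2)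

end X

section G

variable {G : Type*} [Group G]

/-- **FF-min.**  For `L ∈ jOvergroups T`: subgroups `P` and `L1 = J(L)` of `L`, normalized by
`L`, with `C_L(V_L) ≤ P`, `P / C_L(V_L)` abelian, `J(T) ≤ L1`, and all elements of odd order of
`L1` in `P`. -/
theorem ffmin [Finite G]
    (hN : ∀ N : Subgroup G, Cfsg.IsTwoLocal N → Group.IsSolvable ↥N)
    (hZ : ∀ S : Sylow 2 G, Subgroup.centralizer (Cfsg.omegaCenterOf (S : Subgroup G) : Set G) ≤
      Subgroup.normalizer ((S : Subgroup G) : Set G))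
    (T : Subgroup G) (hT1 : T ≠ ⊥) (L : Subgroup G) (hLT : L ∈ Cfsg.jOvergroups T) :
    ∃ P L1 : Subgroup G, CL L ≤ P ∧ P ≤ L ∧ L ≤ Subgroup.normalizer (P : Set G) ∧
      ⁅P, P⁆ ≤ CL L ∧ Cfsg.thompsonSubgroupOf 2 T ≤ L1 ∧
      L ≤ Subgroup.normalizer (L1 : Set G) ∧ ∀ g ∈ L1, Odd (orderOf g) → g ∈ P := by
  have : Fact (Nat.Prime 2) := ⟨Nat.prime_two⟩
  obtain ⟨hT, -, hCQ⟩ := hLT
  have hsolL : Group.IsSolvable ↥L := isSolvable_of_mem_jOvergroups hN hT1 hCQ
  have hsol : Cfsg.IsPSolvable 2 ↥L := Cfsg.Agent.Lib.Helper79.isPSolvable_of_isSolvable 2 hsolL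
  have hV : Cfsg.IsElementaryAbelian 2 ((VL L).subgroupOf L) :=
    isElementaryAbelian_subgroupOf (VL_elemAb L) L
  have hOp := pCore_range_eq_bot ((VL L).subgroupOf L)
    (pCore_quotient_centralizer_VL_eq_bot hZ hT hCQ)
  obtain ⟨P', hP'n, hCP, hPP, hodd⟩ := exists_normal_odd ((VL L).subgroupOf L) hV hsol hOp
  have hJc : (Cfsg.thompsonSubgroup 2 ↥L).Characteristic :=
    (Cfsg.Agent.S0602.result (p := 2)).1
  have hYn : (Cfsg.thompsonSubgroup 2 ↥L).Normal := Subgroup.normal_of_characteristic _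
  refine ⟨P'.map L.subtype, (Cfsg.thompsonSubgroup 2 ↥L).map L.subtype, ?_, ?_, ?_, ?_, ?_, ?_,
    ?_⟩
  · intro c hc
    exact ⟨⟨c, CL_le L hc⟩, hCP ((mem_centralizer_VL_subgroupOf _).mpr hc), rfl⟩
  · exact Subgroup.map_subtype_le _
  · exact Cfsg.Agent.Lib.Helper47.le_normalizer_map_subtype P'
  · rw [← Subgroup.map_commutator]
    rintro _ ⟨x, hx, rfl⟩
    exact (mem_centralizer_VL_subgroupOf x).mp (hPP hx)
  · exact Cfsg.Agent.Lib.Helper55.JComp.thompsonSubgroupOf_le_map hT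
  · exact Cfsg.Agent.Lib.Helper47.le_normalizer_map_subtype _
  · rintro _ ⟨y, hy, rfl⟩ hyo
    refine ⟨y, hodd y hy ?_, rfl⟩
    rwa [Subgroup.coe_subtype, Subgroup.orderOf_coe] at hyo

/-- Two `J(T)`-components of `L ∈ jOvergroups T` commute modulo `C_L(V_L)`. -/
theorem jComp_comm_le [Finite G]
    (hN : ∀ N : Subgroup G, Cfsg.IsTwoLocal N → Group.IsSolvable ↥N)
    (hZ : ∀ S : Sylow 2 G, Subgroup.centralizer (Cfsg.omegaCenterOf (S : Subgroup G) : Set G) ≤
      Subgroup.normalizer ((S : Subgroup G) : Set G))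
    (T : Subgroup G) (hT1 : T ≠ ⊥) (L : Subgroup G) (hLT : L ∈ Cfsg.jOvergroups T) :
    ∀ K1 K2 : Subgroup G, Cfsg.IsJComponent T K1 → Cfsg.IsJComponent T K2 → K1 ≤ L → K2 ≤ L →
      ⁅K1, K2⁆ ≤ CL L := by
  obtain ⟨P, L1, -, -, -, hPP, hJ, hLn, hodd⟩ := ffmin hN hZ T hT1 L hLT
  have key : ∀ K : Subgroup G, Cfsg.IsJComponent T K → K ≤ L → K ≤ P := by
    intro K hK hKL
    have hKL1 : K ≤ L1 := by
      rw [← hK.2.1, Subgroup.commutator_le]
      intro k hk j hj
      have hkn := hLn (hKL hk)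
      rw [commutatorElement_def]
      exact L1.mul_mem ((Subgroup.mem_normalizer_iff.mp hkn j).mp (hJ hj)) (L1.inv_mem (hJ hj))
    rw [← hK.1, Subgroup.closure_le]
    rintro g ⟨hg, hgo⟩
    exact hodd g (hKL1 hg) hgo
  intro K1 K2 hK1 hK2 hK1L hK2L
  exact (Subgroup.commutator_mono (key K1 hK1 hK1L) (key K2 hK2 hK2L)).trans hPP

end G

end Cfsg.Agent.Lib.Helper74.KS12
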