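import Mathlib
import Cfsg.Agent.Lib.Helper74.KS12.FFMin
import Cfsg.Agent.Lib.Helper2.KS12.PZ4
import Cfsg.Agent.Lib.Helper85.KS12.HComm
import Cfsg.Agent.Lib.Helper81.KS12.S2950Core

/-!
Kurzweil–Stellmacher chapter 12 cluster: the closed form of `JCompCentralize G` (two distinct
`J(T)`-components inside `L ∈ jOvergroups T` centralize each other's `W`), assembled from the
core of helper85 (`hComm_core`), package P-Z of helper2 and FF-min.  (helper74)
-/

set_option autoImplicit false

namespace Cfsg.Agent.Lib.Helper74.KS12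

variable {G : Type*} [Group G]

/-- `JCompCentralize G` for a finite group of characteristic 2 type all of whose 2-locals are
solvable and with `C_G(Ω₁(Z(S))) ≤ N_G(S)` for its Sylow 2-subgroups. -/
theorem jCompCentralize [Finite G] (hL : Cfsg.IsCharacteristicTwoType G)
    (hN : ∀ N : Subgroup G, Cfsg.IsTwoLocal N → Group.IsSolvable ↥N)
    (hZ : ∀ S : Sylow 2 G, Subgroup.centralizer (Cfsg.omegaCenterOf (S : Subgroup G) : Set G) ≤
      Subgroup.normalizer ((S : Subgroup G) : Set G)) :
    Cfsg.Agent.Lib.Helper81.KS12.JCompCentralize G := by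
  intro T L K₁ K₂ hT hT1 hLT
  exact Cfsg.Agent.Lib.Helper85.KS12.hComm_core hL hN hZ T L hT hT1 hLT
    (Cfsg.Agent.Lib.Helper2.KS12.CL_le_normalizer_thompson hZ hLT.1 hLT.2.2)
    (Cfsg.Agent.Lib.Helper2.KS12.VL_le_thompson hN hZ hT1 hLT.1 hLT.2.2)
    (jComp_comm_le hN hZ T hT1 L hLT) K₁ K₂

end Cfsg.Agent.Lib.Helper74.KS12
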