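import Mathlib

/-!
# Lemma SOLV (helper74)

A finite solvable group is never a core-free completion of an amalgam `(L₁, L₂; Q)` with
`Q = L₁ ∩ L₂` a `2`-group of index `3` in both `L₁` and `L₂`, when the `L_i` have no nontrivial
normal subgroups of odd order (and `L₁` has a nontrivial normal `2`-subgroup).
-/

set_option autoImplicit false

namespace Cfsg.Agent.Lib.Helper74.KS12

universe u

/-- The hypotheses of Lemma SOLV. -/
structure SolvHyp {Y : Type u} [Group Y] (L₁ L₂ : Subgroup Y) : Prop where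
  gen : L₁ ⊔ L₂ = ⊤
  pgroup : IsPGroup 2 ↥(L₁ ⊓ L₂)
  card₁ : Nat.card ↥L₁ = 3 * Nat.card ↥(L₁ ⊓ L₂)
  card₂ : Nat.card ↥L₂ = 3 * Nat.card ↥(L₁ ⊓ L₂)
  core : ∀ K : Subgroup Y, K ≤ L₁ ⊓ L₂ → (∀ g ∈ L₁, ∀ k ∈ K, g * k * g⁻¹ ∈ K) →
    (∀ g ∈ L₂, ∀ k ∈ K, g * k * g⁻¹ ∈ K) → K = ⊥
  odd₁ : ∀ M : Subgroup Y, M ≤ L₁ → (∀ g ∈ L₁, ∀ m ∈ M, g * m * g⁻¹ ∈ M) →
    Odd (Nat.card ↥M) → M = ⊥
  odd₂ : ∀ M : Subgroup Y, M ≤ L₂ → (∀ g ∈ L₂, ∀ m ∈ M, g * m * g⁻¹ ∈ M) →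
    Odd (Nat.card ↥M) → M = ⊥
  two : ∃ D : Subgroup Y, D ≠ ⊥ ∧ D ≤ L₁ ∧ IsPGroup 2 ↥D ∧
    ∀ g ∈ L₁, ∀ d ∈ D, g * d * g⁻¹ ∈ D

/-- A `2`-subgroup of `L` normalized by `L` lies in every `2`-subgroup of index `3`. -/
theorem solv_le_of_normalized {Y : Type u} [Group Y] [Finite Y] {L Q P : Subgroup Y}
    (hQL : Q ≤ L) (hQ : IsPGroup 2 ↥Q) (hcard : Nat.card ↥L = 3 * Nat.card ↥Q) (hPL : P ≤ L)
    (hP : IsPGroup 2 ↥P) (hn : ∀ g ∈ L, ∀ p ∈ P, g * p * g⁻¹ ∈ P) : P ≤ Q := by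
  haveI : Fact (Nat.Prime 2) := ⟨Nat.prime_two⟩
  have hQN : Q ≤ Subgroup.normalizer (P : Set Y) := by
    intro q hq
    rw [Subgroup.mem_normalizer_iff]
    intro x
    constructor
    · intro hx
      exact hn q (hQL hq) x hx
    · intro hx
      have h1 := hn q⁻¹ (L.inv_mem (hQL hq)) _ hx
      have h2 : q⁻¹ * (q * x * q⁻¹) * q⁻¹⁻¹ = x := by group
      rwa [h2] at h1
  have hPQ : IsPGroup 2 ↥(Q ⊔ P) := IsPGroup.to_sup_of_normal_right' hQ hP hQN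
  obtain ⟨k, hk⟩ := IsPGroup.iff_card.mp hPQ
  have h1 : Nat.card ↥Q ∣ Nat.card ↥(Q ⊔ P) := Subgroup.card_dvd_of_le le_sup_left
  have h2 : Nat.card ↥(Q ⊔ P) ∣ Nat.card ↥L := Subgroup.card_dvd_of_le (sup_le hQL hPL)
  obtain ⟨m, hm⟩ := h1
  have hQpos : 0 < Nat.card ↥Q := Nat.card_pos
  have h3 : m ∣ 3 := by
    rw [hcard, hm, mul_comm 3] at h2
    exact (Nat.mul_dvd_mul_iff_left hQpos).mp h2
  have h4 : m ∣ 2 ^ k := by
    rw [← hk, hm]
    exact dvd_mul_left _ _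
  have h5 : m = 1 := by
    have h6 : m ∣ Nat.gcd 3 (2 ^ k) := Nat.dvd_gcd h3 h4
    have hg : Nat.gcd 3 (2 ^ k) = 1 := Nat.Coprime.pow_right k (by norm_num)
    rw [hg] at h6
    exact Nat.dvd_one.mp h6
  have h6 : Q = Q ⊔ P := by
    apply Subgroup.eq_of_le_of_card_ge le_sup_left
    rw [hm, h5, mul_one]
  rw [h6]
  exact le_sup_right

/-- The image of a subgroup meeting the kernel trivially has the same order. -/
theorem solv_card_map {Y Z : Type u} [Group Y] [Group Z] (f : Y →* Z) (A : Subgroup Y)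
    (h : A ⊓ f.ker = ⊥) : Nat.card ↥(A.map f) = Nat.card ↥A := by
  symm
  apply Nat.card_congr
  refine Equiv.ofBijective (fun a => ⟨f a, Subgroup.mem_map_of_mem f a.2⟩) ⟨?_, ?_⟩
  · intro a b hab
    have h1 : f a = f b := congrArg Subtype.val hab
    have h2 : (a : Y)⁻¹ * b ∈ A ⊓ f.ker :=
      ⟨A.mul_mem (A.inv_mem a.2) b.2, MonoidHom.mem_ker.mpr (by
        rw [map_mul, map_inv, h1, inv_mul_cancel])⟩
    rw [h, Subgroup.mem_bot] at h2
    exact Subtype.ext (inv_mul_eq_one.mp h2)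
  · rintro ⟨z, hz⟩
    obtain ⟨a, ha, rfl⟩ := Subgroup.mem_map.mp hz
    exact ⟨⟨a, ha⟩, rfl⟩

/-- Injectivity on a subgroup meeting the kernel trivially. -/
theorem solv_inj {Y Z : Type u} [Group Y] [Group Z] (f : Y →* Z) (A : Subgroup Y)
    (h : A ⊓ f.ker = ⊥) {a b : Y} (ha : a ∈ A) (hb : b ∈ A) (hab : f a = f b) : a = b := by
  have h2 : a⁻¹ * b ∈ A ⊓ f.ker :=
    ⟨A.mul_mem (A.inv_mem ha) hb, MonoidHom.mem_ker.mpr (by
      rw [map_mul, map_inv, hab, inv_mul_cancel])⟩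
  rw [h, Subgroup.mem_bot] at h2
  exact inv_mul_eq_one.mp h2

/-- Step 2 of the proof: `L₁ N = Y` is impossible. -/
theorem solv_step2 {Y Z : Type u} [Group Y] [Finite Y] [Group Z] (f : Y →* Z)
    {L₁ L₂ : Subgroup Y} (h : SolvHyp L₁ L₂) (h1 : L₁ ⊓ f.ker = ⊥) (h2 : L₂ ⊓ f.ker = ⊥)
    (htop : L₁ ⊔ f.ker = ⊤) : False := by
  obtain ⟨D, hDne, hDL, hD2, hDn⟩ := h.two
  have hA₁ : ∀ P : Subgroup Y, P ≤ L₁ → IsPGroup 2 ↥P →
      (∀ g ∈ L₁, ∀ p ∈ P, g * p * g⁻¹ ∈ P) → P ≤ L₁ ⊓ L₂ := fun P hPL hP hn =>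
    solv_le_of_normalized inf_le_left h.pgroup h.card₁ hPL hP hn
  have hA₂ : ∀ P : Subgroup Y, P ≤ L₂ → IsPGroup 2 ↥P →
      (∀ g ∈ L₂, ∀ p ∈ P, g * p * g⁻¹ ∈ P) → P ≤ L₁ ⊓ L₂ := fun P hPL hP hn =>
    solv_le_of_normalized inf_le_right h.pgroup h.card₂ hPL hP hn
  have hDQ : D ≤ L₁ ⊓ L₂ := hA₁ D hDL hD2 hDn
  -- `E = D ⊔ ker f` is normal
  have hE : ∀ g : Y, ∀ e ∈ D ⊔ f.ker, g * e * g⁻¹ ∈ D ⊔ f.ker := by
    intro g e he
    have hg : g ∈ L₁ ⊔ f.ker := by rw [htop]; trivial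
    obtain ⟨l, hl, n, hn, rfl⟩ := Subgroup.mem_sup_of_normal_right.mp hg
    obtain ⟨d, hd, n', hn', rfl⟩ := Subgroup.mem_sup_of_normal_right.mp he
    have h3 : l * n * (d * n') * (l * n)⁻¹ =
        (l * d * l⁻¹) * (l * (d⁻¹ * n * d * n' * n⁻¹) * l⁻¹) := by group
    rw [h3]
    refine Subgroup.mul_mem _ (Subgroup.mem_sup_left (hDn l hl d hd)) (Subgroup.mem_sup_right ?_)
    have hker : (f.ker).Normal := inferInstance
    apply hker.conj_mem
    refine (f.ker).mul_mem ((f.ker).mul_mem ?_ hn') ((f.ker).inv_mem hn)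
    have := hker.conj_mem n hn d⁻¹
    simpa [mul_assoc] using this
  -- `P = E ⊓ L₂` is a normal `2`-subgroup of `L₂`
  have hP2 : IsPGroup 2 ↥((D ⊔ f.ker) ⊓ L₂) := by
    rintro ⟨p, hp⟩
    obtain ⟨d, hd, n, hn, rfl⟩ := Subgroup.mem_sup_of_normal_right.mp hp.1
    obtain ⟨k, hk⟩ := hD2 ⟨d, hd⟩
    have hk' : d ^ 2 ^ k = 1 := by
      have := congrArg Subtype.val hk
      simpa using this
    refine ⟨k, ?_⟩
    apply Subtype.ext
    show (d * n) ^ 2 ^ k = 1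
    have h3 : (d * n) ^ 2 ^ k ∈ L₂ ⊓ f.ker := by
      refine ⟨L₂.pow_mem hp.2 _, MonoidHom.mem_ker.mpr ?_⟩
      rw [map_pow, map_mul, MonoidHom.mem_ker.mp hn, mul_one, ← map_pow, hk', map_one]
    rw [h2, Subgroup.mem_bot] at h3
    exact h3
  have hPn : ∀ g ∈ L₂, ∀ p ∈ (D ⊔ f.ker) ⊓ L₂, g * p * g⁻¹ ∈ (D ⊔ f.ker) ⊓ L₂ := by
    intro g hg p hp
    exact ⟨hE g p hp.1, L₂.mul_mem (L₂.mul_mem hg hp.2) (L₂.inv_mem hg)⟩
  have hPQ : (D ⊔ f.ker) ⊓ L₂ ≤ L₁ ⊓ L₂ := hA₂ _ inf_le_right hP2 hPn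
  have hPD : (D ⊔ f.ker) ⊓ L₂ ≤ D := by
    intro p hp
    have hpL : p ∈ L₁ := (hPQ hp).1
    obtain ⟨d, hd, n, hn, rfl⟩ := Subgroup.mem_sup_of_normal_right.mp hp.1
    have h3 : n ∈ L₁ ⊓ f.ker := by
      refine ⟨?_, hn⟩
      have := L₁.mul_mem (L₁.inv_mem (hDL hd)) hpL
      simpa using this
    rw [h1, Subgroup.mem_bot] at h3
    rw [h3, mul_one]
    exact hd
  have hDP : D ≤ (D ⊔ f.ker) ⊓ L₂ := le_inf le_sup_left (hDQ.trans inf_le_right)
  have hDn₂ : ∀ g ∈ L₂, ∀ d ∈ D, g * d * g⁻¹ ∈ D := fun g hg d hd =>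
    hPD (hPn g hg d (hDP hd))
  exact hDne (h.core D hDQ hDn hDn₂)

/-- Step 3 of the proof: the hypotheses pass to the quotient by a normal subgroup meeting both
`L_i` trivially. -/
theorem solvHyp_map {Y Z : Type u} [Group Y] [Finite Y] [Group Z] (f : Y →* Z)
    (hf : Function.Surjective f) {L₁ L₂ : Subgroup Y} (h : SolvHyp L₁ L₂)
    (h1 : L₁ ⊓ f.ker = ⊥) (h2 : L₂ ⊓ f.ker = ⊥) : SolvHyp (L₁.map f) (L₂.map f) := by
  have hQ1 : (L₁ ⊓ L₂) ⊓ f.ker = ⊥ := by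
    rw [eq_bot_iff, ← h1]
    exact inf_le_inf_right _ inf_le_left
  -- `L₂ ∩ L₁ N = Q`
  have hR : ∀ b ∈ L₂, b ∈ L₁ ⊔ f.ker → b ∈ L₁ ⊓ L₂ := by
    by_contra hcon
    push Not at hcon
    obtain ⟨b0, hb0L, hb0, hb0Q⟩ := hcon
    -- `R = L₂ ⊓ (L₁ ⊔ ker f)` properly contains `Q`, so it is `L₂`
    have hQR : L₁ ⊓ L₂ ≤ L₂ ⊓ (L₁ ⊔ f.ker) := le_inf inf_le_right (inf_le_left.trans le_sup_left)
    have hd1 : Nat.card ↥(L₁ ⊓ L₂) ∣ Nat.card ↥(L₂ ⊓ (L₁ ⊔ f.ker)) := Subgroup.card_dvd_of_le hQR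
    have hd2 : Nat.card ↥(L₂ ⊓ (L₁ ⊔ f.ker)) ∣ Nat.card ↥L₂ :=
      Subgroup.card_dvd_of_le inf_le_left
    obtain ⟨m, hm⟩ := hd1
    have hQpos : 0 < Nat.card ↥(L₁ ⊓ L₂) := Nat.card_pos
    have h3 : m ∣ 3 := by
      rw [h.card₂, hm, mul_comm 3] at hd2
      exact (Nat.mul_dvd_mul_iff_left hQpos).mp hd2
    have hm13 : m = 1 ∨ m = 3 := (Nat.dvd_prime Nat.prime_three).mp h3
    rcases hm13 with hm1 | hm3
    · have heq : L₁ ⊓ L₂ = L₂ ⊓ (L₁ ⊔ f.ker) := by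
        apply Subgroup.eq_of_le_of_card_ge hQR
        rw [hm, hm1, mul_one]
      apply hb0Q
      rw [heq]
      exact ⟨hb0L, hb0⟩
    · have heq : L₂ ⊓ (L₁ ⊔ f.ker) = L₂ := by
        apply Subgroup.eq_of_le_of_card_ge inf_le_left
        rw [hm, hm3, h.card₂, mul_comm]
      have hle : L₂ ≤ L₁ ⊔ f.ker := by
        rw [← heq]
        exact inf_le_right
      have htop : L₁ ⊔ f.ker = ⊤ := by
        rw [eq_top_iff, ← h.gen]
        exact sup_le le_sup_left hle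
      exact solv_step2 f h h1 h2 htop
  have hinf : L₁.map f ⊓ L₂.map f = (L₁ ⊓ L₂).map f := by
    apply le_antisymm
    · intro z hz
      obtain ⟨a, ha, rfl⟩ := Subgroup.mem_map.mp hz.1
      obtain ⟨b, hb, hab⟩ := Subgroup.mem_map.mp hz.2
      have hbmem : b ∈ L₁ ⊔ f.ker := by
        have h3 : b = a * (a⁻¹ * b) := by group
        rw [h3]
        refine Subgroup.mul_mem _ (Subgroup.mem_sup_left ha)
          (Subgroup.mem_sup_right (MonoidHom.mem_ker.mpr ?_))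
        rw [map_mul, map_inv, hab, inv_mul_cancel]
      have hbQ := hR b hb hbmem
      rw [← hab]
      exact Subgroup.mem_map_of_mem f hbQ
    · exact Subgroup.map_inf_le _ _ f
  have hcQ : Nat.card ↥((L₁ ⊓ L₂).map f) = Nat.card ↥(L₁ ⊓ L₂) := solv_card_map f _ hQ1
  refine ⟨?_, ?_, ?_, ?_, ?_, ?_, ?_, ?_⟩
  · rw [← Subgroup.map_sup, h.gen, ← MonoidHom.range_eq_map, MonoidHom.range_eq_top]
    exact hf
  · rw [hinf]
    exact h.pgroup.map f
  · rw [hinf, hcQ, solv_card_map f _ h1, h.card₁]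
  · rw [hinf, hcQ, solv_card_map f _ h2, h.card₂]
  · -- core
    intro K hK hK1 hK2
    rw [hinf] at hK
    have hKQ1 : ∀ a ∈ L₁, f a ∈ K → a ∈ L₁ ⊓ L₂ := by
      intro a ha hfa
      obtain ⟨q, hq, hqa⟩ := Subgroup.mem_map.mp (hK hfa)
      have := solv_inj f L₁ h1 hq.1 ha hqa
      rw [← this]
      exact hq
    have hKQ2 : ∀ a ∈ L₂, f a ∈ K → a ∈ L₁ ⊓ L₂ := by
      intro a ha hfa
      obtain ⟨q, hq, hqa⟩ := Subgroup.mem_map.mp (hK hfa)
      have := solv_inj f L₂ h2 hq.2 ha hqa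
      rw [← this]
      exact hq
    have hK0 : K.comap f ⊓ (L₁ ⊓ L₂) = ⊥ := by
      apply h.core
      · exact inf_le_right
      · intro g hg k hk
        have hk1 : f (g * k * g⁻¹) ∈ K := by
          rw [map_mul, map_mul, map_inv]
          exact hK1 (f g) (Subgroup.mem_map_of_mem f hg) (f k) hk.1
        exact ⟨hk1, hKQ1 _ (L₁.mul_mem (L₁.mul_mem hg hk.2.1) (L₁.inv_mem hg)) hk1⟩
      · intro g hg k hk
        have hk1 : f (g * k * g⁻¹) ∈ K := by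
          rw [map_mul, map_mul, map_inv]
          exact hK2 (f g) (Subgroup.mem_map_of_mem f hg) (f k) hk.1
        exact ⟨hk1, hKQ2 _ (L₂.mul_mem (L₂.mul_mem hg hk.2.2) (L₂.inv_mem hg)) hk1⟩
    rw [eq_bot_iff]
    intro z hz
    obtain ⟨q, hq, rfl⟩ := Subgroup.mem_map.mp (hK hz)
    have hq0 : q ∈ K.comap f ⊓ (L₁ ⊓ L₂) := ⟨hz, hq⟩
    rw [hK0, Subgroup.mem_bot] at hq0
    rw [hq0, map_one]
    exact Subgroup.one_mem _
  · -- odd₁
    intro M hM hMn hodd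
    have hM0 : M.comap f ⊓ L₁ = ⊥ := by
      apply h.odd₁
      · exact inf_le_right
      · intro g hg m hm
        refine ⟨?_, L₁.mul_mem (L₁.mul_mem hg hm.2) (L₁.inv_mem hg)⟩
        show f (g * m * g⁻¹) ∈ M
        rw [map_mul, map_mul, map_inv]
        exact hMn (f g) (Subgroup.mem_map_of_mem f hg) (f m) hm.1
      · have hmap : (M.comap f ⊓ L₁).map f = M := by
          apply le_antisymm
          · rintro z hz
            obtain ⟨a, ha, rfl⟩ := Subgroup.mem_map.mp hz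
            exact ha.1
          · intro z hz
            obtain ⟨a, ha, rfl⟩ := Subgroup.mem_map.mp (hM hz)
            exact Subgroup.mem_map_of_mem f ⟨hz, ha⟩
        have hker : (M.comap f ⊓ L₁) ⊓ f.ker = ⊥ := by
          rw [eq_bot_iff, ← h1]
          exact inf_le_inf_right _ inf_le_right
        rw [← solv_card_map f _ hker, hmap]
        exact hodd
    rw [eq_bot_iff]
    intro z hz
    obtain ⟨a, ha, rfl⟩ := Subgroup.mem_map.mp (hM hz)
    have ha0 : a ∈ M.comap f ⊓ L₁ := ⟨hz, ha⟩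
    rw [hM0, Subgroup.mem_bot] at ha0
    rw [ha0, map_one]
    exact Subgroup.one_mem _
  · -- odd₂
    intro M hM hMn hodd
    have hM0 : M.comap f ⊓ L₂ = ⊥ := by
      apply h.odd₂
      · exact inf_le_right
      · intro g hg m hm
        refine ⟨?_, L₂.mul_mem (L₂.mul_mem hg hm.2) (L₂.inv_mem hg)⟩
        show f (g * m * g⁻¹) ∈ M
        rw [map_mul, map_mul, map_inv]
        exact hMn (f g) (Subgroup.mem_map_of_mem f hg) (f m) hm.1
      · have hmap : (M.comap f ⊓ L₂).map f = M := by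
          apply le_antisymm
          · rintro z hz
            obtain ⟨a, ha, rfl⟩ := Subgroup.mem_map.mp hz
            exact ha.1
          · intro z hz
            obtain ⟨a, ha, rfl⟩ := Subgroup.mem_map.mp (hM hz)
            exact Subgroup.mem_map_of_mem f ⟨hz, ha⟩
        have hker : (M.comap f ⊓ L₂) ⊓ f.ker = ⊥ := by
          rw [eq_bot_iff, ← h2]
          exact inf_le_inf_right _ inf_le_right
        rw [← solv_card_map f _ hker, hmap]
        exact hodd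
    rw [eq_bot_iff]
    intro z hz
    obtain ⟨a, ha, rfl⟩ := Subgroup.mem_map.mp (hM hz)
    have ha0 : a ∈ M.comap f ⊓ L₂ := ⟨hz, ha⟩
    rw [hM0, Subgroup.mem_bot] at ha0
    rw [ha0, map_one]
    exact Subgroup.one_mem _
  · -- two
    obtain ⟨D, hDne, hDL, hD2, hDn⟩ := h.two
    refine ⟨D.map f, ?_, Subgroup.map_mono hDL, hD2.map f, ?_⟩
    · intro hbot
      apply hDne
      rw [eq_bot_iff]
      intro d hd
      have h3 : f d ∈ D.map f := Subgroup.mem_map_of_mem f hd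
      rw [hbot, Subgroup.mem_bot] at h3
      have h4 : d ∈ L₁ ⊓ f.ker := ⟨hDL hd, MonoidHom.mem_ker.mpr h3⟩
      rw [h1] at h4
      exact h4
    · intro g hg d hd
      obtain ⟨a, ha, rfl⟩ := Subgroup.mem_map.mp hg
      obtain ⟨b, hb, rfl⟩ := Subgroup.mem_map.mp hd
      have := Subgroup.mem_map_of_mem f (hDn a ha b hb)
      simpa using this

/-- The elements of square one in a commutative subgroup. -/
def solvOmega {Y : Type u} [Group Y] (A : Subgroup Y)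
    (hab : ∀ a ∈ A, ∀ b ∈ A, a * b = b * a) : Subgroup Y where
  carrier := {a | a ∈ A ∧ a * a = 1}
  mul_mem' := by
    rintro a b ⟨ha, ha2⟩ ⟨hb, hb2⟩
    refine ⟨Subgroup.mul_mem _ ha hb, ?_⟩
    calc a * b * (a * b) = a * (b * a) * b := by group
      _ = a * (a * b) * b := by rw [hab b hb a ha]
      _ = (a * a) * (b * b) := by group
      _ = 1 := by rw [ha2, hb2, one_mul]
  one_mem' := ⟨Subgroup.one_mem _, one_mul 1⟩
  inv_mem' := by
    rintro a ⟨ha, ha2⟩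
    refine ⟨Subgroup.inv_mem _ ha, ?_⟩
    rw [← mul_inv_rev, ha2, inv_one]

theorem mem_solvOmega {Y : Type u} [Group Y] (A : Subgroup Y)
    (hab : ∀ a ∈ A, ∀ b ∈ A, a * b = b * a) (a : Y) :
    a ∈ solvOmega A hab ↔ a ∈ A ∧ a * a = 1 := Iff.rfl

/-- A nontrivial finite solvable group has a nontrivial normal subgroup which is a `2`-group or
has odd order. -/
theorem solv_exists_normal (Y : Type u) [Group Y] [Finite Y] [Nontrivial Y]
    (hs : Group.IsSolvable Y) :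
    ∃ N : Subgroup Y, N.Normal ∧ N ≠ ⊥ ∧ (IsPGroup 2 ↥N ∨ Odd (Nat.card ↥N)) := by
  classical
  have hex := hs.solvable
  have hm0 : Nat.find hex ≠ 0 := by
    intro h0
    have := Nat.find_spec hex
    rw [h0, derivedSeries_zero] at this
    exact top_ne_bot this
  obtain ⟨k, hk⟩ := Nat.exists_eq_succ_of_ne_zero hm0
  have hA : derivedSeries Y k ≠ ⊥ := Nat.find_min hex (by omega)
  have hcomm : ⁅derivedSeries Y k, derivedSeries Y k⁆ = ⊥ := by
    have := Nat.find_spec hex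
    rw [hk] at this
    exact this
  have hcent := Subgroup.commutator_eq_bot_iff_le_centralizer.mp hcomm
  have hab : ∀ a ∈ derivedSeries Y k, ∀ b ∈ derivedSeries Y k, a * b = b * a := by
    intro a ha b hb
    have := hcent hb
    rw [Subgroup.mem_centralizer_iff] at this
    exact this a ha
  have hAn : (derivedSeries Y k).Normal := inferInstance
  by_cases hodd : Odd (Nat.card ↥(derivedSeries Y k))
  · exact ⟨derivedSeries Y k, hAn, hA, Or.inr hodd⟩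
  · rw [Nat.not_odd_iff_even] at hodd
    haveI : Fact (Nat.Prime 2) := ⟨Nat.prime_two⟩
    obtain ⟨x, hx⟩ := exists_prime_orderOf_dvd_card' (G := ↥(derivedSeries Y k)) 2
      (even_iff_two_dvd.mp hodd)
    refine ⟨solvOmega (derivedSeries Y k) hab, ?_, ?_, Or.inl ?_⟩
    · constructor
      rintro a ⟨ha, ha2⟩ g
      refine ⟨hAn.conj_mem a ha g, ?_⟩
      calc g * a * g⁻¹ * (g * a * g⁻¹) = g * (a * a) * g⁻¹ := by group
        _ = 1 := by rw [ha2]; group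
    · intro hbot
      have hx1 : (x : Y) ∈ solvOmega (derivedSeries Y k) hab := by
        refine ⟨x.2, ?_⟩
        have h2 : x ^ 2 = 1 := by rw [← hx]; exact pow_orderOf_eq_one x
        have h3 := congrArg Subtype.val h2
        simpa [pow_two] using h3
      rw [hbot, Subgroup.mem_bot] at hx1
      have hx2 : x = 1 := Subtype.ext hx1
      rw [hx2, orderOf_one] at hx
      omega
    · rintro ⟨a, ha, ha2⟩
      refine ⟨1, ?_⟩
      apply Subtype.ext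
      show a ^ 2 ^ 1 = 1
      rw [pow_one, pow_two, ha2]

theorem solv_aux (n : ℕ) : ∀ (Y : Type u) [Group Y] [Finite Y], Nat.card Y = n →
    ∀ (L₁ L₂ : Subgroup Y), SolvHyp L₁ L₂ → ¬ Group.IsSolvable Y := by
  induction n using Nat.strong_induction_on with
  | _ n ih =>
    intro Y _ _ hn L₁ L₂ h hsolv
    have hnt : Nontrivial Y := by
      rw [← Finite.one_lt_card_iff_nontrivial]
      have h1 : Nat.card ↥L₁ ≤ Nat.card Y := Subgroup.card_le_card_group L₁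
      have h2 : 0 < Nat.card ↥(L₁ ⊓ L₂) := Nat.card_pos
      have h3 := h.card₁
      omega
    obtain ⟨N, hNn, hNne, hN2⟩ := solv_exists_normal Y hsolv
    have hker : (QuotientGroup.mk' N).ker = N := QuotientGroup.ker_mk' N
    -- `N ∩ L_i = 1`
    have hN1 : L₁ ⊓ N = ⊥ ∧ L₂ ⊓ N = ⊥ := by
      rcases hN2 with h2 | hodd
      · have hP1 : IsPGroup 2 ↥(L₁ ⊓ N) := h2.to_le inf_le_right
        have hP2 : IsPGroup 2 ↥(L₂ ⊓ N) := h2.to_le inf_le_right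
        have hn1 : ∀ g ∈ L₁, ∀ p ∈ L₁ ⊓ N, g * p * g⁻¹ ∈ L₁ ⊓ N := fun g hg p hp =>
          ⟨L₁.mul_mem (L₁.mul_mem hg hp.1) (L₁.inv_mem hg), hNn.conj_mem p hp.2 g⟩
        have hn2 : ∀ g ∈ L₂, ∀ p ∈ L₂ ⊓ N, g * p * g⁻¹ ∈ L₂ ⊓ N := fun g hg p hp =>
          ⟨L₂.mul_mem (L₂.mul_mem hg hp.1) (L₂.inv_mem hg), hNn.conj_mem p hp.2 g⟩
        have hle1 : L₁ ⊓ N ≤ L₁ ⊓ L₂ :=
          solv_le_of_normalized inf_le_left h.pgroup h.card₁ inf_le_left hP1 hn1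
        have hle2 : L₂ ⊓ N ≤ L₁ ⊓ L₂ :=
          solv_le_of_normalized inf_le_right h.pgroup h.card₂ inf_le_left hP2 hn2
        have heq : L₁ ⊓ N = L₂ ⊓ N := by
          apply le_antisymm
          · exact le_inf (hle1.trans inf_le_right) inf_le_right
          · exact le_inf (hle2.trans inf_le_left) inf_le_right
        have hbot : L₁ ⊓ N = ⊥ := by
          apply h.core _ hle1 hn1
          rw [heq]
          exact hn2
        exact ⟨hbot, heq ▸ hbot⟩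
      · have ho1 : Odd (Nat.card ↥(L₁ ⊓ N)) :=
          Odd.of_dvd_nat hodd (Subgroup.card_dvd_of_le inf_le_right)
        have ho2 : Odd (Nat.card ↥(L₂ ⊓ N)) :=
          Odd.of_dvd_nat hodd (Subgroup.card_dvd_of_le inf_le_right)
        refine ⟨h.odd₁ _ inf_le_left (fun g hg p hp => ?_) ho1,
          h.odd₂ _ inf_le_left (fun g hg p hp => ?_) ho2⟩
        · exact ⟨L₁.mul_mem (L₁.mul_mem hg hp.1) (L₁.inv_mem hg), hNn.conj_mem p hp.2 g⟩
        · exact ⟨L₂.mul_mem (L₂.mul_mem hg hp.1) (L₂.inv_mem hg), hNn.conj_mem p hp.2 g⟩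
    have hH := solvHyp_map (QuotientGroup.mk' N) (QuotientGroup.mk'_surjective N) h
      (by rw [hker]; exact hN1.1) (by rw [hker]; exact hN1.2)
    have hlt : Nat.card (Y ⧸ N) < n := by
      have h1 := Subgroup.card_eq_card_quotient_mul_card_subgroup N
      have h2 : 1 < Nat.card ↥N := by
        rw [Finite.one_lt_card_iff_nontrivial]
        exact (Subgroup.nontrivial_iff_ne_bot N).mpr hNne
      have h3 : 0 < Nat.card (Y ⧸ N) := Nat.card_pos
      rw [hn] at h1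
      nlinarith
    exact ih _ hlt (Y ⧸ N) rfl _ _ hH inferInstance

/-- **Lemma SOLV.** -/
theorem not_isSolvable_of_solvHyp {Y : Type u} [Group Y] [Finite Y] (L₁ L₂ : Subgroup Y)
    (h : SolvHyp L₁ L₂) : ¬ Group.IsSolvable Y :=
  solv_aux (Nat.card Y) Y rfl L₁ L₂ h

end Cfsg.Agent.Lib.Helper74.KS12
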